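import Groth.Agent.QCoh.ClosedPush
import Groth.Agent.AModX.Res

/-!
# Isomorphisms of quasi-coherent modules are detected on an affine cover
-/

universe u

set_option backward.isDefEq.respectTransparency false
set_option backward.isDefEq.respectTransparency.types false

open CategoryTheory AlgebraicGeometry TopologicalSpace Opposite

namespace Groth.Agent.GammaStar34

variable {X : Scheme.{u}} {M N : X.Modules}

theorem bijective_app_basicOpen (φ : M ⟶ N) (hM : Coh.IsQCoh M) (hN : Coh.IsQCoh N) {U : X.Opens}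
    (hU : IsAffineOpen U) (hb : Function.Bijective (φ.app U)) (r : Γ(X, U)) :
    Function.Bijective (φ.app (X.basicOpen r)) := by
  have hr : ∀ k : ℕ, IsUnit (AModX.resR (X.basicOpen_le r) r ^ k) := fun k =>
    (AModX.isUnit_resR _ _ le_rfl).pow k
  constructor
  · refine (injective_iff_map_eq_zero _).2 fun x hx => ?_
    obtain ⟨k, t, ht⟩ := QCoh.exists_pow_smul_eq_map hM hU r x
    have h0 : AModX.res N (X.basicOpen_le r) (φ.app U t) = 0 := by
      rw [← AModX.app_res, show AModX.res M (X.basicOpen_le r) t = _ from ht]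
      exact (φ.app_smul _ _).trans (by rw [hx, smul_zero])
    obtain ⟨l, hl⟩ := QCoh.exists_pow_smul_eq_zero hN hU r _ h0
    have h1 : r ^ l • t = 0 := hb.1 (by rw [Scheme.Modules.Hom.app_smul, hl, map_zero])
    have h2 := congrArg (AModX.res M (X.basicOpen_le r)) h1
    rw [AModX.res_smul, map_zero, map_pow, show AModX.res M (X.basicOpen_le r) t = _ from ht] at h2
    exact (hr k).smul_eq_zero.mp ((hr l).smul_eq_zero.mp h2)
  · intro y
    obtain ⟨k, t, ht⟩ := QCoh.exists_pow_smul_eq_map hN hU r y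
    obtain ⟨x, hx⟩ := hb.2 t
    obtain ⟨u, hu⟩ := hr k
    refine ⟨(u⁻¹ : Γ(X, X.basicOpen r)ˣ).1 • AModX.res M (X.basicOpen_le r) x, ?_⟩
    rw [Scheme.Modules.Hom.app_smul, AModX.app_res, hx, show AModX.res N (X.basicOpen_le r) t = _ from ht]
    show _ • (AModX.resR (X.basicOpen_le r) r ^ k • y) = y
    rw [← hu, smul_smul, Units.inv_mul, one_smul]

theorem isIso_of_affineCover (φ : M ⟶ N) (hM : Coh.IsQCoh M) (hN : Coh.IsQCoh N) {ι : Type*}
    (U : ι → X.Opens) (hU : ∀ i, IsAffineOpen (U i)) (hcov : ∀ x : X, ∃ i, x ∈ U i)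
    (hb : ∀ i, Function.Bijective (φ.app (U i))) : IsIso φ := by
  refine QCoh.isIso_of_isBasis φ (B := {V | ∃ i, ∃ r : Γ(X, U i), V = X.basicOpen r}) ?_ ?_
  · refine Opens.isBasis_iff_nbhd.2 fun {W x} hx => ?_
    obtain ⟨i, hi⟩ := hcov x
    obtain ⟨r, hrW, hxr⟩ := (hU i).exists_basicOpen_le ⟨x, hx⟩ hi
    exact ⟨_, ⟨i, r, rfl⟩, hxr, hrW⟩
  · rintro _ ⟨i, r, rfl⟩
    exact bijective_app_basicOpen φ hM hN (hU i) (hb i) r

end Groth.Agent.GammaStar34
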