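import Groth.Agent.GammaStar34.Map

/-!
# `Γ_*(F)~ ⟶ F` as a morphism of modules
-/

noncomputable section

universe u

set_option backward.isDefEq.respectTransparency false
set_option backward.isDefEq.respectTransparency.types false
set_option synthInstance.maxHeartbeats 200000

open CategoryTheory AlgebraicGeometry TopologicalSpace DirectSum Opposite

namespace Groth.Agent.GammaStar34

variable {R A : Type u} [CommRing R] [CommRing A] [Algebra R A] {𝒜 : ℕ → Submodule R A} [GradedAlgebra 𝒜]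
  {ι : Type u} (g : ι → A) (hg : ∀ i, g i ∈ 𝒜 1) (F : (Proj 𝒜).Modules)
  (hcov : ∀ x : ProjectiveSpectrum 𝒜, ∃ i, x ∈ D 𝒜 g i)
include hcov

lemma img_eq_of_local {U : (Proj 𝒜).Opens} {a : Γ(Til g hg F, U)} {t : Γ(F, U)}
    (h : ∀ y ∈ U, ∃ (W : (Proj 𝒜).Opens) (hWU : W ≤ U) (_ : y ∈ W) (i : ι) (hW : W ≤ D 𝒜 g i) (n : ℕ)
      (σ : sec g hg F n) (s : A) (hs : s ∈ 𝒜 n) (hWs : NV s W),
      (∀ z : W, GrMod.val a ⟨z.1, hWU z.2⟩ = LocalizedModule.mk (incl g hg F n σ) ⟨s, hWs z⟩) ∧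
      Eqn g hg F i hW σ hs (AModX.res F hWU t)) : img g hg F hcov a = t := by
  refine AModX.eq_of_locally _ _ fun y hy => ?_
  obtain ⟨W, hWU, hyW, i, hW, n, σ, s, hs, hWs, hval, he⟩ := h y hy
  exact ⟨W, hWU, hyW, Eqn.unique hWs (img_spec g hg F hcov a W hWU i hW n σ s hs hWs hval) he⟩

lemma img_res {U V : (Proj 𝒜).Opens} (h : V ≤ U) (a : Γ(Til g hg F, U)) :
    img g hg F hcov ((Til g hg F).presheaf.map (homOfLE h).op a) = AModX.res F h (img g hg F hcov a) :=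
  img_eq g hg F hcov fun W hWV i hW n σ s hs hWs hv => by
    rw [AModX.res_res]
    exact img_spec g hg F hcov a W (hWV.trans h) i hW n σ s hs hWs hv

lemma img_add {U : (Proj 𝒜).Opens} (a b : Γ(Til g hg F, U)) :
    img g hg F hcov (a + b) = img g hg F hcov a + img g hg F hcov b := by
  refine img_eq_of_local g hg F hcov fun y hy => ?_
  obtain ⟨V, hVU, hyV, n, σ, s, hs, hVs, ha⟩ := exists_rep g hg F a hy
  obtain ⟨V', hVU', hyV', p, τ, s', hs', hVs', hb⟩ := exists_rep g hg F b hy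
  obtain ⟨i, hi⟩ := hcov y
  let W := V ⊓ V' ⊓ D 𝒜 g i
  have hWV : W ≤ V := inf_le_left.trans inf_le_left
  have hWV' : W ≤ V' := inf_le_left.trans inf_le_right
  have m₁ : (fun k => coef g hg k hs' • σ.1 k) ∈ sec g hg F (n + p) := by
    have := smul_mem_sec g hg F ⟨s', hs'⟩ σ
    rwa [Nat.add_comm p n] at this
  have m₂ : (fun k => coef g hg k hs • τ.1 k) ∈ sec g hg F (n + p) := smul_mem_sec g hg F ⟨s, hs⟩ τ
  let ρ : sec g hg F (n + p) := ⟨_, m₁⟩ + ⟨_, m₂⟩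
  refine ⟨W, hWV.trans hVU, ⟨⟨hyV, hyV'⟩, hi⟩, i, inf_le_right, n + p, ρ, s * s',
    SetLike.mul_mem_graded hs hs', (hVs.mono hWV).mul (hVs'.mono hWV'), fun z => ?_, ?_⟩
  · have e : incl g hg F (n + p) ρ = s' • incl g hg F n σ + s • incl g hg F p τ := by
      rw [map_add, smul_incl g hg F hs, smul_incl g hg F hs']
      refine congrArg₂ (· + ·) ?_ rfl
      exact DirectSum.of_eq_of_gradedMonoid_eq (Sigma.subtype_ext (Nat.add_comm n p) rfl)
    rw [show GrMod.val (a + b) ⟨z.1, (hWV.trans hVU) z.2⟩ =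
      GrMod.val a ⟨z.1, hVU (hWV z.2)⟩ + GrMod.val b ⟨z.1, hVU' (hWV' z.2)⟩ from rfl,
      ha ⟨z.1, hWV z.2⟩, hb ⟨z.1, hWV' z.2⟩, LocalizedModule.mk_add_mk, e]
    rfl
  · have h1 := img_spec g hg F hcov a W (hWV.trans hVU) i inf_le_right n σ s hs (hVs.mono hWV)
      fun z => ha ⟨z.1, hWV z.2⟩
    have h2 := img_spec g hg F hcov b W (hWV'.trans hVU') i inf_le_right p τ s' hs' (hVs'.mono hWV')
      fun z => hb ⟨z.1, hWV' z.2⟩
    unfold Eqn at h1 h2 ⊢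
    rw [show ρ.1 i = coef g hg i hs' • σ.1 i + coef g hg i hs • τ.1 i from rfl, map_add, map_add,
      AModX.res_smul, AModX.res_smul, ← h1, ← h2, smul_add, smul_smul, smul_smul]
    congr 2 <;>
    · rw [res_coef, res_coef, res_coef, frac_mul]
      exact frac_eq _ _ _ _ _ _ (by ring)

lemma img_smul {U : (Proj 𝒜).Opens} (c : Γ(Proj 𝒜, U)) (a : Γ(Til g hg F, U)) :
    img g hg F hcov (c • a) = c • img g hg F hcov a := by
  refine img_eq_of_local g hg F hcov fun y hy => ?_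
  obtain ⟨V, hVU, hyV, n, σ, s, hs, hVs, ha⟩ := exists_rep g hg F a hy
  obtain ⟨V', hyV', iV', k, ⟨r, hr⟩, ⟨t, ht⟩, hVt, hc⟩ := (c : GrTwist.O (𝒜 := 𝒜) (op U)).2 ⟨y, hy⟩
  obtain ⟨i, hi⟩ := hcov y
  let W := V ⊓ V' ⊓ D 𝒜 g i
  have hWV : W ≤ V := inf_le_left.trans inf_le_left
  have hWt : NV t W := fun z => hVt ⟨z.1, z.2.1.2⟩
  have hcW : AModX.resR (hWV.trans hVU) c = frac W hr ht hWt := ext_oval fun z => by
    rw [val_frac]
    refine Eq.trans ?_ (show HomogeneousLocalization.val (HomogeneousLocalization.mk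
      ⟨k, ⟨r, hr⟩, ⟨t, ht⟩, hWt z⟩) = _ from rfl)
    exact congrArg HomogeneousLocalization.val (hc ⟨z.1, z.2.1.2⟩)
  refine ⟨W, hWV.trans hVU, ⟨⟨hyV, hyV'⟩, hi⟩, i, inf_le_right, k + n,
    ⟨_, smul_mem_sec g hg F ⟨r, hr⟩ σ⟩, t * s, SetLike.mul_mem_graded ht hs,
    hWt.mul (hVs.mono hWV), fun z => ?_, ?_⟩
  · rw [GrModX.val_smul, ha ⟨z.1, hWV z.2⟩]
    have e : (GrModX.oval 𝒜 c ⟨z.1, (hWV.trans hVU) z.2⟩).val = Localization.mk r ⟨t, hWt z⟩ := by
      rw [← GrModX.oval_res 𝒜 (homOfLE (hWV.trans hVU)) c z]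
      exact congrArg (fun c => (GrModX.oval 𝒜 c z).val) hcW
    rw [e, LocalizedModule.mk_smul_mk, ← smul_incl g hg F hr σ]
    rfl
  · have h1 := img_spec g hg F hcov a W (hWV.trans hVU) i inf_le_right n σ s hs (hVs.mono hWV)
      fun z => ha ⟨z.1, hWV z.2⟩
    unfold Eqn at h1 ⊢
    rw [AModX.res_smul, AModX.res_smul, ← h1, hcW, smul_smul, smul_smul]
    congr 1
    rw [res_coef, res_coef, res_coef, frac_mul, frac_mul]
    exact frac_eq _ _ _ _ _ _ (by rw [pow_add]; ring)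

/-- `Γ_*(F)~ ⟶ F`. -/
def beta : Til g hg F ⟶ F :=
  ⟨PresheafOfModules.homMk
    { app := fun U => AddCommGrpCat.ofHom (AddMonoidHom.mk'
        (fun a : Γ(Til g hg F, U.unop) => img g hg F hcov a) fun a b => img_add g hg F hcov a b)
      naturality := fun U V i => AddCommGrpCat.ext fun a => img_res g hg F hcov i.unop.le a }
    fun U (c : Γ(Proj 𝒜, U.unop)) (a : Γ(Til g hg F, U.unop)) => img_smul g hg F hcov c a⟩

lemma beta_app {U : (Proj 𝒜).Opens} (a : Γ(Til g hg F, U)) :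
    (beta g hg F hcov).app U a = img g hg F hcov a := rfl

end Groth.Agent.GammaStar34
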