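import Groth.Agent.GammaStar34.FiniteSub

/-!
# Degree-one generators cover `Proj`
-/

universe u

open AlgebraicGeometry TopologicalSpace

namespace Groth.Agent.GammaStar34

variable {R A : Type u} [CommRing R] [CommRing A] [Algebra R A] {𝒜 : ℕ → Submodule R A} [GradedAlgebra 𝒜]

theorem exists_mem_D (s : Finset A)
    (hs : (HomogeneousIdeal.irrelevant 𝒜).toIdeal = Ideal.span (s : Set A)) (x : ProjectiveSpectrum 𝒜) :
    ∃ i : (s : Set A), x ∈ D 𝒜 (fun i : (s : Set A) => (i : A)) i := by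
  by_contra! h
  refine x.not_irrelevant_le ?_
  show (HomogeneousIdeal.irrelevant 𝒜).toIdeal ≤ x.asHomogeneousIdeal.toIdeal
  rw [hs, Ideal.span_le]
  exact fun f hf => not_not.mp (h ⟨f, hf⟩)

end Groth.Agent.GammaStar34
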