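import Groth.Agent.GammaStar34.Iso
import Groth.Agent.GrModX.Finite
import Groth.Agent.GrModX.MapProps
import Groth.Agent.QCoh.FT

/-!
# A finitely generated graded module for a module of finite type
-/

noncomputable section

universe u

set_option backward.isDefEq.respectTransparency false
set_option backward.isDefEq.respectTransparency.types false
set_option synthInstance.maxHeartbeats 200000

open CategoryTheory AlgebraicGeometry TopologicalSpace DirectSum Opposite

namespace Groth.Agent.GammaStar34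

section Sub

variable {R A M : Type u} [CommRing R] [CommRing A] [Algebra R A] (𝒜 : ℕ → Submodule R A) [GradedAlgebra 𝒜]
  [AddCommGroup M] [Module R M] [Module A M] [IsScalarTower R A M] (ℳ : ℕ → Submodule R M)
  [DirectSum.Decomposition ℳ] [SetLike.GradedSMul 𝒜 ℳ] {κ : Type u} (m : κ → M) (e : κ → ℕ)

/-- The submodule spanned by `m`. -/
abbrev subM : Submodule A M := Submodule.span A (Set.range m)

/-- Its pieces. -/
def subGrade (n : ℕ) : Submodule R (subM (A := A) m) :=
  (ℳ n).comap ((subM (A := A) m).subtype.restrictScalars R)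

include 𝒜 in
lemma decompose_mem_subM (hm : ∀ k, m k ∈ ℳ (e k)) {x : M} (hx : x ∈ subM (A := A) m) (i : ℕ) :
    (decompose ℳ x i : M) ∈ subM (A := A) m := by
  classical
  induction hx using Submodule.span_induction generalizing i with
  | mem x hx =>
    obtain ⟨k, rfl⟩ := hx
    by_cases h : e k = i
    · subst h; rw [decompose_of_mem_same ℳ (hm k)]; exact Submodule.subset_span ⟨k, rfl⟩
    · rw [decompose_of_mem_ne ℳ (hm k) h]; exact zero_mem _
  | zero => rw [decompose_zero]; exact zero_mem _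
  | add x y _ _ hx hy =>
    rw [decompose_add, DFinsupp.add_apply, AddMemClass.coe_add]; exact add_mem (hx i) (hy i)
  | smul c x _ hx =>
    rw [← sum_support_decompose ℳ x, Finset.smul_sum, decompose_sum, DirectSum.sum_apply,
      AddSubmonoidClass.coe_finsetSum]
    refine Submodule.sum_mem _ fun j _ => ?_
    rw [GrModX.decompose_smul_mem 𝒜 ℳ c (SetLike.coe_mem _) i]
    split
    · exact Submodule.smul_mem _ _ (hx j)
    · exact zero_mem _

include 𝒜 in
lemma isInternal_subGrade (hm : ∀ k, m k ∈ ℳ (e k)) : DirectSum.IsInternal (subGrade (A := A) ℳ m) := by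
  classical
  let f : ∀ n, subGrade (A := A) ℳ m n →+ ℳ n := fun n =>
    { toFun := fun x => ⟨x.1.1, x.2⟩, map_zero' := rfl, map_add' := fun _ _ => rfl }
  have hf : ∀ y, ((DirectSum.coeAddMonoidHom (subGrade (A := A) ℳ m) y : subM (A := A) m) : M) =
      DirectSum.coeAddMonoidHom ℳ (DirectSum.map f y) := fun y => by
    induction y using DirectSum.induction_on with
    | zero => simp
    | of n x => rw [DirectSum.coeAddMonoidHom_of, DirectSum.map_of, DirectSum.coeAddMonoidHom_of]; rfl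
    | add x y hx hy => rw [map_add, Submodule.coe_add, hx, hy, map_add, map_add]
  refine ⟨fun y z h => ?_, fun x => ?_⟩
  · refine (DirectSum.map_injective f).2 (fun n a b h => ?_) ((DirectSum.Decomposition.isInternal ℳ).injective ?_)
    · exact Subtype.ext (Subtype.ext (congrArg Subtype.val h : _))
    · exact (hf y).symm.trans ((congrArg Subtype.val h).trans (hf z))
  · refine ⟨∑ i ∈ (decompose ℳ x.1).support, DirectSum.of (fun n => subGrade (A := A) ℳ m n) i
      ⟨⟨_, decompose_mem_subM 𝒜 ℳ m e hm x.2 i⟩, SetLike.coe_mem (decompose ℳ x.1 i)⟩, Subtype.ext ?_⟩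
    rw [map_sum, AddSubmonoidClass.coe_finsetSum]
    conv_rhs => rw [← sum_support_decompose ℳ x.1]
    exact Finset.sum_congr rfl fun i _ => congrArg Subtype.val (DirectSum.coeAddMonoidHom_of _ i _)

instance : SetLike.GradedSMul 𝒜 (subGrade (A := A) ℳ m) :=
  ⟨fun {p n} {a x} ha hx =>
    (SetLike.GradedSMul.smul_mem (A := 𝒜) (B := ℳ) ha (show (x : M) ∈ ℳ n from hx) :)⟩

end Sub

variable {R A : Type u} [CommRing R] [CommRing A] [Algebra R A] {𝒜 : ℕ → Submodule R A} [GradedAlgebra 𝒜]
  {ι : Type u} (g : ι → A) (hg : ∀ i, g i ∈ 𝒜 1) (F : (Proj 𝒜).Modules)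
  (hcov : ∀ x : ProjectiveSpectrum 𝒜, ∃ i, x ∈ D 𝒜 g i)

include hcov in
/-- Generators of `F` on the charts come from finitely many homogeneous elements. -/
lemma exists_gens [Finite ι] (hF : Coh.IsQCoh F) (hFT : CohB1.IsFT F) :
    ∃ (κ : Type u) (_ : Finite κ) (e : κ → ℕ) (σ : ∀ k, sec g hg F (e k)),
      ∀ i, ∃ c : Set κ, Submodule.span Γ(Proj 𝒜, D 𝒜 g i) ((fun k => (σ k).1 i) '' c) = ⊤ := by
  have hfin : ∀ i, Module.Finite Γ(Proj 𝒜, D 𝒜 g i) Γ(F, D 𝒜 g i) := fun i =>
    QCoh.finite_of_isFT hF hFT (Proj.isAffineOpen_basicOpen 𝒜 (g i) (hg i) Nat.one_pos)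
  choose n v hv using fun i => (hfin i).exists_fin (R := Γ(Proj 𝒜, D 𝒜 g i)) (M := Γ(F, D 𝒜 g i))
  let κ := Σ i, Fin (n i)
  have key : ∀ k : κ, ∃ (e : ℕ) (σ : sec g hg F e), σ.1 k.1 = v k.1 k.2 := fun k => by
    obtain ⟨a, ha⟩ := beta_app_D_surjective g hg F hcov hF k.1 (v k.1 k.2)
    obtain ⟨e, m, hm, hval⟩ := GrModX.exists_frac 𝒜 (grade g hg F) Nat.one_pos (hg k.1) 0 a
    obtain ⟨e', he', σ, rfl⟩ := hm.exists_mem (by positivity)
    obtain rfl : e = e' := by omega
    refine ⟨e, σ, ?_⟩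
    have h := img_spec g hg F hcov a (D 𝒜 g k.1) le_rfl k.1 le_rfl e σ _ (gp g hg k.1 e) (nvg g k.1 e) hval
    unfold Eqn at h
    rw [AModX.resR_self, coef_self, one_smul, AModX.res_self, AModX.res_self] at h
    exact h.symm.trans ha
  choose e σ hσ using key
  refine ⟨κ, inferInstance, e, σ, fun i => ⟨Set.range (Sigma.mk i), ?_⟩⟩
  rw [← hv i, ← Set.range_comp]
  exact congrArg _ (congrArg Set.range (funext fun j => hσ ⟨i, j⟩))

include hcov hg in
/-- A finitely generated graded module with sheaf `F`. -/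
theorem exists_finite_iso [Finite ι] (hF : Coh.IsQCoh F) (hFT : CohB1.IsFT F) :
    ∃ (N : Type u) (_ : AddCommGroup N) (_ : Module R N) (_ : Module A N) (_ : IsScalarTower R A N)
      (𝒩 : ℕ → Submodule R N) (_ : DirectSum.Decomposition 𝒩) (_ : SetLike.GradedSMul 𝒜 𝒩),
      Module.Finite A N ∧ Nonempty (GrMod.tilde 𝒜 𝒩 0 ≅ F) := by
  obtain ⟨κ, _, e, σ, hσ⟩ := exists_gens g hg F hcov hF hFT
  let m : κ → Gam g hg F := fun k => incl g hg F (e k) (σ k)
  have hm : ∀ k, m k ∈ grade g hg F (e k) := fun k => incl_mem ..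
  letI := (isInternal_subGrade 𝒜 (grade g hg F) m e hm).chooseDecomposition
  let u : subM (A := A) m →ₗ[A] Gam g hg F := (subM (A := A) m).subtype
  have hu : ∀ (i : ℕ) (x : subM (A := A) m), x ∈ subGrade (A := A) (grade g hg F) m i →
      u x ∈ grade g hg F i := fun i x hx => hx
  refine ⟨_, inferInstance, inferInstance, inferInstance, inferInstance,
    subGrade (A := A) (grade g hg F) m, inferInstance, inferInstance,
    Module.Finite.iff_fg.2 (Submodule.fg_span (Set.finite_range m)), ⟨?_⟩⟩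
  let φ := GrMod.map 𝒜 u hu 0 ≫ beta g hg F hcov
  have : IsIso φ := by
    refine isIso_of_affineCover φ (GrModX.isQCoh_tilde 𝒜 _ 0) hF (D 𝒜 g)
      (fun i => Proj.isAffineOpen_basicOpen 𝒜 (g i) (hg i) Nat.one_pos) hcov fun i => ⟨?_, ?_⟩
    · exact (beta_app_D_injective g hg F hcov hF i).comp
        (GrModX.map_app_injective 𝒜 u hu 0 (fun _ _ x _ hx => Subtype.ext hx) 0 Nat.one_pos (hg i))
    · intro t
      obtain ⟨c, hc⟩ := hσ i
      have ht : t ∈ Submodule.span Γ(Proj 𝒜, D 𝒜 g i) ((fun k => (σ k).1 i) '' c) := hc ▸ Submodule.mem_top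
      induction ht using Submodule.span_induction with
      | mem x hx =>
        obtain ⟨k, -, rfl⟩ := hx
        refine ⟨GrModX.fracSect 𝒜 _ 0 (D 𝒜 g i) (gp g hg i (e k)) (nvg g i _)
          (m := ⟨m k, Submodule.subset_span ⟨k, rfl⟩⟩) ((GrModX.deg_of_mem
            (ℳ := subGrade (A := A) (grade g hg F) m) (i := e k) (hm k)).congr (by omega)), ?_⟩
        show (beta g hg F hcov).app _ ((GrMod.map 𝒜 u hu 0).app _ _) = _
        rw [beta_app]
        refine img_eq_of_local g hg F hcov fun z hz => ⟨D 𝒜 g i, le_rfl, hz, i, le_rfl, e k, σ k, _,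
          gp g hg i (e k), nvg g i _, fun w => (GrMod.map_app_val u hu 0 _ _ w).trans (GrMod.locMap_mk u _ _ _), ?_⟩
        unfold Eqn
        rw [AModX.resR_self, coef_self, one_smul, AModX.res_self]
      | zero => exact ⟨0, map_zero _⟩
      | add x y _ _ hx hy =>
        obtain ⟨⟨a, rfl⟩, ⟨b, rfl⟩⟩ := And.intro hx hy
        exact ⟨a + b, map_add _ _ _⟩
      | smul r x _ hx =>
        obtain ⟨a, rfl⟩ := hx
        exact ⟨r • a, Scheme.Modules.Hom.app_smul _ _ _⟩
  exact asIso φ

end Groth.Agent.GammaStar34
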