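import Groth.Agent.GrModX.QCohTilde
import Groth.Agent.AModX.Res

/-!
# Fractions of equal degree as functions on open subsets of `Proj`
-/

noncomputable section

universe u

set_option backward.isDefEq.respectTransparency false
set_option backward.isDefEq.respectTransparency.types false

open CategoryTheory AlgebraicGeometry TopologicalSpace DirectSum Opposite

namespace Groth.Agent.GammaStar34

variable {A σ : Type u} [CommRing A] [SetLike σ A] [AddSubgroupClass σ A] {𝒜 : ℕ → σ} [GradedRing 𝒜]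

/-- `s` vanishes nowhere on `U`. -/
def NV (s : A) (U : (Proj 𝒜).Opens) : Prop := ∀ y : U, s ∉ y.1.asHomogeneousIdeal

lemma NV.mono {s : A} {U V : (Proj 𝒜).Opens} (h : NV s U) (hle : V ≤ U) : NV s V :=
  fun y => h ⟨y.1, hle y.2⟩

lemma NV.mul {s t : A} {U : (Proj 𝒜).Opens} (h : NV s U) (h' : NV t U) : NV (s * t) U :=
  fun y hy => (y.1.isPrime.mem_or_mem hy).elim (h y) (h' y)

lemma NV.one (U : (Proj 𝒜).Opens) : NV (1 : A) U := fun y => GrMod.one_nin y.1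

lemma NV.pow {s : A} {U : (Proj 𝒜).Opens} (h : NV s U) (n : ℕ) : NV (s ^ n) U :=
  fun y => GrModX.pow_notMem y.1.isPrime (h y) n

lemma nv_basicOpen (s : A) : NV s (Proj.basicOpen 𝒜 s) := fun y => y.2

variable {U V : (Proj 𝒜).Opens} {m n : ℕ} {a b s t : A}

/-- The function `a / s` on an open where `s` does not vanish. -/
def frac (U : (Proj 𝒜).Opens) (ha : a ∈ 𝒜 m) (hs : s ∈ 𝒜 m) (hU : NV s U) : Γ(Proj 𝒜, U) :=
  show GrTwist.O (𝒜 := 𝒜) (op U) from
    ⟨fun y => HomogeneousLocalization.mk ⟨m, ⟨a, ha⟩, ⟨s, hs⟩, hU y⟩,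
      fun y => ⟨U, y.2, 𝟙 _, m, ⟨a, ha⟩, ⟨s, hs⟩, hU, fun _ => rfl⟩⟩

lemma val_frac (ha : a ∈ 𝒜 m) (hs : s ∈ 𝒜 m) (hU : NV s U) (y : U) :
    (GrModX.oval 𝒜 (frac U ha hs hU) y).val = Localization.mk a ⟨s, hU y⟩ := rfl

/-- Functions on an open of `Proj` are determined by their values. -/
lemma ext_oval {c c' : Γ(Proj 𝒜, U)}
    (h : ∀ y : U, (GrModX.oval 𝒜 c y).val = (GrModX.oval 𝒜 c' y).val) : c = c' :=
  Subtype.ext (funext fun y => HomogeneousLocalization.val_injective _ (h y))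

lemma oval_mul (c c' : Γ(Proj 𝒜, U)) (y : U) :
    GrModX.oval 𝒜 (c * c') y = GrModX.oval 𝒜 c y * GrModX.oval 𝒜 c' y := rfl

lemma oval_add (c c' : Γ(Proj 𝒜, U)) (y : U) :
    GrModX.oval 𝒜 (c + c') y = GrModX.oval 𝒜 c y + GrModX.oval 𝒜 c' y := rfl

lemma frac_eq (ha : a ∈ 𝒜 m) (hs : s ∈ 𝒜 m) (hU : NV s U) (hb : b ∈ 𝒜 n) (ht : t ∈ 𝒜 n)
    (hU' : NV t U) (h : a * t = b * s) : frac U ha hs hU = frac U hb ht hU' := by
  refine ext_oval fun y => ?_
  rw [val_frac, val_frac, Localization.mk_eq_mk_iff, Localization.r_iff_exists]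
  exact ⟨1, by simp only [OneMemClass.coe_one, one_mul]; linear_combination h⟩

lemma frac_mul (ha : a ∈ 𝒜 m) (hs : s ∈ 𝒜 m) (hU : NV s U) (hb : b ∈ 𝒜 n) (ht : t ∈ 𝒜 n)
    (hU' : NV t U) : frac U ha hs hU * frac U hb ht hU' =
      frac U (SetLike.mul_mem_graded ha hb) (SetLike.mul_mem_graded hs ht) (hU.mul hU') := by
  refine ext_oval fun y => ?_
  rw [oval_mul, HomogeneousLocalization.val_mul, val_frac, val_frac, val_frac, Localization.mk_mul]
  rfl

lemma frac_add (ha : a ∈ 𝒜 m) (hb : b ∈ 𝒜 m) (hs : s ∈ 𝒜 m) (hU : NV s U) :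
    frac U (add_mem ha hb) hs hU = frac U ha hs hU + frac U hb hs hU := by
  refine ext_oval fun y => ?_
  rw [oval_add, HomogeneousLocalization.val_add, val_frac, val_frac, val_frac, Localization.add_mk_self]

lemma frac_zero (hs : s ∈ 𝒜 m) (hU : NV s U) : frac U (zero_mem (𝒜 m)) hs hU = 0 := by
  refine ext_oval fun y => ?_
  rw [val_frac, Localization.mk_zero]
  exact HomogeneousLocalization.val_zero.symm

lemma frac_self (hs : s ∈ 𝒜 m) (hU : NV s U) : frac U hs hs hU = 1 := by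
  refine ext_oval fun y => ?_
  rw [val_frac]
  refine Eq.trans ?_ HomogeneousLocalization.val_one.symm
  exact Localization.mk_self (⟨s, hU y⟩ : y.1.asHomogeneousIdeal.toIdeal.primeCompl)

lemma res_frac (hVU : V ≤ U) (ha : a ∈ 𝒜 m) (hs : s ∈ 𝒜 m) (hU : NV s U) :
    AModX.resR hVU (frac U ha hs hU) = frac V ha hs (hU.mono hVU) :=
  ext_oval fun _ => rfl

lemma frac_pow (ha : a ∈ 𝒜 m) (hs : s ∈ 𝒜 m) (hU : NV s U) (k : ℕ) :
    frac U ha hs hU ^ k = frac U (GrModX.pow_mem_deg 𝒜 ha k) (GrModX.pow_mem_deg 𝒜 hs k) (hU.pow k) := by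
  refine ext_oval fun y => ?_
  rw [GrModX.oval_pow, HomogeneousLocalization.val_pow, val_frac, val_frac, Localization.mk_pow]
  rfl

lemma isUnit_frac (ha : a ∈ 𝒜 m) (hs : s ∈ 𝒜 m) (hU : NV s U) (hUa : NV a U) :
    IsUnit (frac U ha hs hU) := by
  refine IsUnit.of_mul_eq_one (frac U hs ha hUa) ?_
  rw [frac_mul, ← frac_self (SetLike.mul_mem_graded hs ha) (hU.mul hUa)]
  exact frac_eq _ _ _ _ _ _ (by ring)

lemma basicOpen_frac (ha : a ∈ 𝒜 m) (hs : s ∈ 𝒜 m) (hU : NV s U) :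
    (Proj 𝒜).basicOpen (frac U ha hs hU) = U ⊓ Proj.basicOpen 𝒜 a := by
  ext y
  constructor
  · intro hy
    have hyU : y ∈ U := (Proj 𝒜).basicOpen_le _ hy
    have h := (GrModX.mem_basicOpen_iff_isUnit 𝒜 _ ⟨y, hyU⟩).mp hy
    rw [val_frac, Localization.mk_eq_mk', IsLocalization.AtPrime.isUnit_mk'_iff] at h
    exact ⟨hyU, h⟩
  · rintro ⟨hyU, hya⟩
    refine (GrModX.mem_basicOpen_iff_isUnit 𝒜 _ ⟨y, hyU⟩).mpr ?_
    rw [val_frac, Localization.mk_eq_mk', IsLocalization.AtPrime.isUnit_mk'_iff]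
    exact hya

end Groth.Agent.GammaStar34
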