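import Groth.Agent.GammaStar34.Beta
import Groth.Agent.GammaStar34.AffineIso

/-!
# `Γ_*(F)~ ≅ F` for quasi-coherent `F`
-/

noncomputable section

universe u

set_option backward.isDefEq.respectTransparency false
set_option backward.isDefEq.respectTransparency.types false
set_option synthInstance.maxHeartbeats 200000

open CategoryTheory AlgebraicGeometry TopologicalSpace DirectSum Opposite

namespace Groth.Agent.GammaStar34

variable {R A : Type u} [CommRing R] [CommRing A] [Algebra R A] {𝒜 : ℕ → Submodule R A} [GradedAlgebra 𝒜]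
  {ι : Type u} (g : ι → A) (hg : ∀ i, g i ∈ 𝒜 1) (F : (Proj 𝒜).Modules)

lemma coef_self (i : ι) (k : ℕ) : coef g hg i (gp g hg i k) = (1 : Γ(Proj 𝒜, D 𝒜 g i)) := frac_self _ _

lemma Gam.ext_comp {n : ℕ} {σ τ : sec g hg F n} (h : ∀ i, σ.1 i = τ.1 i) : σ = τ :=
  Subtype.ext (funext h)

/-- A finite family of exponents has a common upper bound. -/
lemma exists_bound [Finite ι] (e : ι → ℕ) : ∃ N, ∀ i, e i ≤ N := by
  have := Fintype.ofFinite ι
  exact ⟨Finset.univ.sup e, fun i => Finset.le_sup (Finset.mem_univ i)⟩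

variable (hcov : ∀ x : ProjectiveSpectrum 𝒜, ∃ i, x ∈ D 𝒜 g i)
include hcov

lemma beta_app_D_injective [Finite ι] (hF : Coh.IsQCoh F) (i : ι) :
    Function.Injective ((beta g hg F hcov).app (D 𝒜 g i)) := by
  refine (injective_iff_map_eq_zero _).2 fun a ha => ?_
  obtain ⟨k, m, hm, hval⟩ := GrModX.exists_frac 𝒜 (grade g hg F) Nat.one_pos (hg i) 0 a
  obtain ⟨k', hk', σ, rfl⟩ := hm.exists_mem (by positivity)
  obtain rfl : k = k' := by omega
  have hσi : σ.1 i = 0 := by
    have h := img_spec g hg F hcov a (D 𝒜 g i) le_rfl i le_rfl k σ _ (gp g hg i k) (nvg g i k) hval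
    rw [show img g hg F hcov a = 0 from ha] at h
    unfold Eqn at h
    rw [map_zero, smul_zero, AModX.res_self] at h
    exact h.symm
  have key : ∀ j, ∃ e : ℕ, coef g hg j (hg i) ^ e • σ.1 j = 0 := fun j => by
    refine QCoh.exists_pow_smul_eq_zero hF (Proj.isAffineOpen_basicOpen 𝒜 (g j) (hg j) Nat.one_pos) _ _ ?_
    have hle : (Proj 𝒜).basicOpen (coef g hg j (hg i)) ≤ D 𝒜 g i ⊓ D 𝒜 g j := by
      rw [coef, basicOpen_frac]; exact (inf_comm _ _).le
    have h := congrArg (AModX.res F hle) (σ.2 i j)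
    rw [AModX.res_res, AModX.res_smul, AModX.res_res, hσi, map_zero, smul_zero] at h
    exact h
  choose e he using key
  obtain ⟨N, hN⟩ := exists_bound e
  have hzero : g i ^ N • incl g hg F k σ = 0 := by
    rw [smul_incl g hg F (gp g hg i N) σ, show (⟨_, smul_mem_sec g hg F ⟨g i ^ N, gp g hg i N⟩ σ⟩ :
      sec g hg F (N + k)) = 0 from Gam.ext_comp g hg F fun j => ?_, map_zero]
    show coef g hg j (gp g hg i N) • σ.1 j = 0
    have hc : coef g hg j (gp g hg i N) = coef g hg j (hg i) ^ N := by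
      rw [coef, coef, frac_pow]
      exact frac_eq _ _ _ _ _ _ (by rw [pow_one])
    rw [hc, ← Nat.sub_add_cancel (hN j), pow_add, mul_smul, he j, smul_zero]
  refine GrModX.ext_val 𝒜 (grade g hg F) fun y => (hval y).trans ?_
  exact (GrModX.mk_eq_zero_iff 𝒜 y.1 _ _).mpr ⟨g i ^ N, GrModX.pow_notMem y.1.isPrime y.2 N, hzero⟩

lemma beta_app_D_surjective [Finite ι] (hF : Coh.IsQCoh F) (i : ι) :
    Function.Surjective ((beta g hg F hcov).app (D 𝒜 g i)) := by
  intro t
  have hle : ∀ j, (Proj 𝒜).basicOpen (coef g hg j (hg i)) ≤ D 𝒜 g i := fun j => by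
    rw [coef, basicOpen_frac]; exact inf_le_right
  choose k₀ x hx using fun j => QCoh.exists_pow_smul_eq_map hF
    (Proj.isAffineOpen_basicOpen 𝒜 (g j) (hg j) Nat.one_pos) (coef g hg j (hg i)) (AModX.res F (hle j) t)
  obtain ⟨k, hk⟩ := exists_bound k₀
  have hji : ∀ (j : ι) (W : (Proj 𝒜).Opens) (hWj : W ≤ D 𝒜 g j) (hWi : W ≤ D 𝒜 g i),
      AModX.res F hWj (coef g hg j (hg i) ^ (k - k₀ j) • x j) =
        frac W (gp g hg i k) (gp g hg j k) ((nvg g j k).mono hWj) • AModX.res F hWi t := by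
    intro j W hWj hWi
    have hWb : W ≤ (Proj 𝒜).basicOpen (coef g hg j (hg i)) := by
      rw [coef, basicOpen_frac]; exact le_inf hWj hWi
    have h2 : AModX.res F hWj (x j) = AModX.resR hWj (coef g hg j (hg i)) ^ k₀ j • AModX.res F hWi t := by
      have h1 := congrArg (AModX.res F hWb) (show AModX.res F ((Proj 𝒜).basicOpen_le _) (x j) =
        AModX.resR ((Proj 𝒜).basicOpen_le _) (coef g hg j (hg i)) ^ k₀ j • AModX.res F (hle j) t from hx j)
      rwa [AModX.res_res, AModX.res_smul, map_pow, AModX.resR_resR, AModX.res_res] at h1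
    rw [AModX.res_smul, map_pow, h2, smul_smul, ← pow_add, Nat.sub_add_cancel (hk j), res_coef, frac_pow]
    congr 1
    exact frac_eq _ _ _ _ _ _ (by rw [pow_one])
  generalize hy : (fun j => coef g hg j (hg i) ^ (k - k₀ j) • x j : ∀ j, Γ(F, D 𝒜 g j)) = y
  replace hji : ∀ (j : ι) (W : (Proj 𝒜).Opens) (hWj : W ≤ D 𝒜 g j) (hWi : W ≤ D 𝒜 g i),
      AModX.res F hWj (y j) = frac W (gp g hg i k) (gp g hg j k) ((nvg g j k).mono hWj) • AModX.res F hWi t :=
    fun j W hWj hWi => by subst hy; exact hji j W hWj hWi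
  clear hy hx
  have key : ∀ p : ι × ι, ∃ e : ℕ,
      AModX.resR (inf_le_right : D 𝒜 g p.1 ⊓ D 𝒜 g p.2 ≤ _) (coef g hg p.2 (hg i)) ^ e •
        (AModX.res F inf_le_right (y p.2) - trans g hg p.1 p.2 k • AModX.res F inf_le_left (y p.1)) = 0 := by
    rintro ⟨j, l⟩
    have haff : IsAffineOpen (D 𝒜 g j ⊓ D 𝒜 g l) := by
      have := Proj.isAffineOpen_basicOpen 𝒜 (g j * g l) (SetLike.mul_mem_graded (hg j) (hg l)) (by omega)
      rwa [Proj.basicOpen_mul] at this
    refine QCoh.exists_pow_smul_eq_zero hF haff _ _ ?_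
    set W := (Proj 𝒜).basicOpen (AModX.resR (inf_le_right : D 𝒜 g j ⊓ D 𝒜 g l ≤ _) (coef g hg l (hg i)))
    have hWjl : W ≤ D 𝒜 g j ⊓ D 𝒜 g l := (Proj 𝒜).basicOpen_le _
    have hWi : W ≤ D 𝒜 g i := by
      refine le_trans ?_ (hle l)
      exact (Scheme.basicOpen_res (Proj 𝒜) (coef g hg l (hg i)) (homOfLE inf_le_right).op).le.trans inf_le_right
    show AModX.res F hWjl (_ - _) = 0
    rw [map_sub, AModX.res_res, AModX.res_smul, AModX.res_res, sub_eq_zero,
      show AModX.res F (hWjl.trans inf_le_right) (y l) = _ from hji l W _ hWi,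
      show AModX.res F (hWjl.trans inf_le_left) (y j) = _ from hji j W _ hWi, smul_smul]
    congr 1
    rw [trans, res_frac, frac_mul]
    exact frac_eq _ _ _ _ _ _ (by ring)
  choose e he using key
  obtain ⟨N, hN⟩ := exists_bound e
  have hτ : (fun j => coef g hg j (hg i) ^ N • y j) ∈ sec g hg F (k + N) := fun j l => by
    have h0 := he (j, l)
    have h1 : AModX.resR (inf_le_right : D 𝒜 g j ⊓ D 𝒜 g l ≤ _) (coef g hg l (hg i)) ^ N •
        (AModX.res F inf_le_right (y l) - trans g hg j l k • AModX.res F inf_le_left (y j)) = 0 := by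
      rw [← Nat.sub_add_cancel (hN (j, l)), pow_add, mul_smul, h0, smul_zero]
    rw [smul_sub, sub_eq_zero] at h1
    show AModX.res F _ (coef g hg l (hg i) ^ N • y l) = trans g hg j l (k + N) •
      AModX.res F _ (coef g hg j (hg i) ^ N • y j)
    rw [AModX.res_smul, AModX.res_smul, map_pow, map_pow, h1, smul_smul, smul_smul]
    congr 1
    rw [res_coef, res_coef, trans, trans, frac_pow, frac_pow, frac_mul, frac_mul]
    exact frac_eq _ _ _ _ _ _ (by ring)
  let τ : sec g hg F (k + N) := ⟨_, hτ⟩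
  have hτi : τ.1 i = t := by
    show coef g hg i (hg i) ^ N • y i = t
    have h := hji i (D 𝒜 g i) le_rfl le_rfl
    rw [AModX.res_self, AModX.res_self, frac_self, one_smul] at h
    have h1 : coef g hg i (hg i) = 1 := by
      rw [coef]
      exact (frac_eq _ _ _ (gp g hg i 1) (gp g hg i 1) (nvg g i 1) (by ring)).trans (frac_self _ _)
    rw [h1, one_pow, one_smul]
    exact h
  refine ⟨GrModX.fracSect 𝒜 (grade g hg F) 0 (D 𝒜 g i) (gp g hg i (k + N)) (nvg g i _)
    (m := incl g hg F _ τ) ((GrModX.deg_of_mem (ℳ := grade g hg F) (incl_mem g hg F _ τ)).congr (by omega)), ?_⟩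
  rw [beta_app]
  refine img_eq_of_local g hg F hcov fun z hz => ⟨D 𝒜 g i, le_rfl, hz, i, le_rfl, k + N, τ, _,
    gp g hg i (k + N), nvg g i _, fun w => rfl, ?_⟩
  unfold Eqn
  rw [AModX.resR_self, coef_self, one_smul, AModX.res_self, AModX.res_self, hτi]

theorem isIso_beta [Finite ι] (hF : Coh.IsQCoh F) : IsIso (beta g hg F hcov) :=
  isIso_of_affineCover _ (GrModX.isQCoh_tilde 𝒜 (grade g hg F) 0) hF (D 𝒜 g)
    (fun i => Proj.isAffineOpen_basicOpen 𝒜 (g i) (hg i) Nat.one_pos) hcov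
    fun i => ⟨beta_app_D_injective g hg F hcov hF i, beta_app_D_surjective g hg F hcov hF i⟩

end Groth.Agent.GammaStar34
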