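import Groth.Agent.GammaStar34.Module
import Groth.Agent.GrModX.Stalk

/-!
# The morphism `Γ_*(F)~ ⟶ F`
-/

noncomputable section

universe u

set_option backward.isDefEq.respectTransparency false
set_option backward.isDefEq.respectTransparency.types false
set_option synthInstance.maxHeartbeats 200000

open CategoryTheory AlgebraicGeometry TopologicalSpace DirectSum Opposite

namespace Groth.Agent.GammaStar34

variable {R A : Type u} [CommRing R] [CommRing A] [Algebra R A] {𝒜 : ℕ → Submodule R A} [GradedAlgebra 𝒜]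
  {ι : Type u} (g : ι → A) (hg : ∀ i, g i ∈ 𝒜 1) (F : (Proj 𝒜).Modules)

/-- `Γ_*(F)~`. -/
abbrev Til : (Proj 𝒜).Modules := GrMod.tilde 𝒜 (grade g hg F) 0

/-- The component of an element of `Γ_*(F)` at a chart. -/
def comp (i : ι) : Gam g hg F →+ Γ(F, D 𝒜 g i) :=
  DirectSum.toAddMonoid (β := fun n => ↥(sec g hg F n)) fun n =>
    (Pi.evalAddMonoidHom _ i).comp (sec g hg F n).subtype

lemma comp_incl (i : ι) (n : ℕ) (σ : sec g hg F n) : comp g hg F i (incl g hg F n σ) = σ.1 i :=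
  DirectSum.toAddMonoid_of (β := fun n => ↥(sec g hg F n)) _ n σ

lemma comp_smul (i : ι) {p : ℕ} {a : A} (ha : a ∈ 𝒜 p) (x : Gam g hg F) :
    comp g hg F i (a • x) = coef g hg i ha • comp g hg F i x := by
  induction x using Gam.induction g hg F with
  | h0 => rw [smul_zero, map_zero, smul_zero]
  | h1 n σ => rw [smul_incl g hg F ha σ, comp_incl, comp_incl]
  | h2 x y hx hy => rw [smul_add, map_add, hx, hy, map_add, smul_add]

lemma res_coef {W : (Proj 𝒜).Opens} (i : ι) (hW : W ≤ D 𝒜 g i) {p : ℕ} {a : A} (ha : a ∈ 𝒜 p) :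
    AModX.resR hW (coef g hg i ha) = frac W ha (gp g hg i p) ((nvg g i p).mono hW) := res_frac _ _ _ _

lemma isUnit_res_coef {W : (Proj 𝒜).Opens} (i : ι) (hW : W ≤ D 𝒜 g i) {p : ℕ} {a : A} (ha : a ∈ 𝒜 p)
    (hWa : NV a W) : IsUnit (AModX.resR hW (coef g hg i ha)) := by
  rw [res_coef]; exact isUnit_frac _ _ _ hWa

/-- `t` is `σ / s` on `W ⊆ D(g i)`. -/
def Eqn {W : (Proj 𝒜).Opens} (i : ι) (hW : W ≤ D 𝒜 g i) {n : ℕ} (σ : sec g hg F n) {s : A}
    (hs : s ∈ 𝒜 n) (t : Γ(F, W)) : Prop :=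
  AModX.resR hW (coef g hg i hs) • t = AModX.res F hW (σ.1 i)

variable {g hg F}

lemma Eqn.restrict {W W' : (Proj 𝒜).Opens} {i : ι} {hW : W ≤ D 𝒜 g i} {n : ℕ} {σ : sec g hg F n} {s : A}
    {hs : s ∈ 𝒜 n} {t : Γ(F, W)} (h : Eqn g hg F i hW σ hs t) (hle : W' ≤ W) :
    Eqn g hg F i (hle.trans hW) σ hs (AModX.res F hle t) := by
  unfold Eqn at h ⊢
  rw [← AModX.resR_resR hW hle, ← AModX.res_smul, h, AModX.res_res]

lemma Eqn.unique {W : (Proj 𝒜).Opens} {i : ι} {hW : W ≤ D 𝒜 g i} {n : ℕ} {σ : sec g hg F n} {s : A}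
    {hs : s ∈ 𝒜 n} (hWs : NV s W) {t t' : Γ(F, W)} (h : Eqn g hg F i hW σ hs t)
    (h' : Eqn g hg F i hW σ hs t') : t = t' :=
  (isUnit_res_coef g hg i hW hs hWs).smul_left_cancel.mp (h.trans h'.symm)

variable (g hg F) in
lemma exists_eqn {W : (Proj 𝒜).Opens} (i : ι) (hW : W ≤ D 𝒜 g i) {n : ℕ} (σ : sec g hg F n) {s : A}
    (hs : s ∈ 𝒜 n) (hWs : NV s W) : ∃ t, Eqn g hg F i hW σ hs t := by
  obtain ⟨u, hu⟩ := isUnit_res_coef g hg i hW hs hWs
  exact ⟨(u⁻¹ : Γ(Proj 𝒜, W)ˣ).1 • AModX.res F hW (σ.1 i), by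
    rw [Eqn, ← hu, smul_smul, Units.mul_inv, one_smul]⟩

lemma Eqn.chart {W : (Proj 𝒜).Opens} {i : ι} {hW : W ≤ D 𝒜 g i} {n : ℕ} {σ : sec g hg F n} {s : A}
    {hs : s ∈ 𝒜 n} {t : Γ(F, W)} (h : Eqn g hg F i hW σ hs t) (j : ι) (hWj : W ≤ D 𝒜 g j) :
    Eqn g hg F j hWj σ hs t := by
  unfold Eqn at h ⊢
  have e := congrArg (AModX.res F (le_inf hW hWj)) (σ.2 i j)
  rw [AModX.res_res, AModX.res_smul, AModX.res_res] at e
  rw [e, ← h, smul_smul]
  congr 1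
  rw [res_coef, res_coef, trans, res_frac, frac_mul]
  exact frac_eq _ _ _ _ _ _ (by ring)

lemma Eqn.change {W : (Proj 𝒜).Opens} {i : ι} {hW : W ≤ D 𝒜 g i} {n : ℕ} {σ : sec g hg F n} {s : A}
    {hs : s ∈ 𝒜 n} {t : Γ(F, W)} (h : Eqn g hg F i hW σ hs t) (hWs : NV s W) {p : ℕ}
    (τ : sec g hg F p) {s' : A} (hs' : s' ∈ 𝒜 p) (hWs' : NV s' W)
    (heq : ∀ y : W, (LocalizedModule.mk (incl g hg F n σ) ⟨s, hWs y⟩ :
        GrMod.LocMod 𝒜 (M := Gam g hg F) y.1) = LocalizedModule.mk (incl g hg F p τ) ⟨s', hWs' y⟩) :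
    Eqn g hg F i hW τ hs' t := by
  classical
  refine AModX.eq_of_locally _ _ fun y hy => ?_
  obtain ⟨⟨u, hu⟩, he⟩ := LocalizedModule.mk_eq.mp (heq ⟨y, hy⟩)
  simp only [Submonoid.smul_def] at he
  have h1 : s' • incl g hg F n σ ∈ grade g hg F (p + n) := SetLike.GradedSMul.smul_mem hs' (incl_mem ..)
  have h2 : s • incl g hg F p τ ∈ grade g hg F (p + n) :=
    (Nat.add_comm n p) ▸ SetLike.GradedSMul.smul_mem hs (incl_mem ..)
  have hu0 : u • (s' • incl g hg F n σ - s • incl g hg F p τ) = 0 := by rw [smul_sub, he, sub_self]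
  obtain ⟨e, hey⟩ : ∃ e, (decompose 𝒜 u e : A) ∉ y.asHomogeneousIdeal := by
    by_contra! hall
    exact hu (by rw [← sum_support_decompose 𝒜 u]; exact Ideal.sum_mem _ fun i _ => hall i)
  have hk := GrModX.proj_smul_eq_zero 𝒜 (ℳ := grade g hg F) (sub_mem h1 h2) hu0 e
  rw [GradedRing.proj_apply] at hk
  have hk' := congrArg (comp g hg F i) hk
  rw [map_zero, comp_smul g hg F i (SetLike.coe_mem _), map_sub, comp_smul g hg F i hs',
    comp_smul g hg F i hs, comp_incl, comp_incl] at hk'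
  refine ⟨W ⊓ Proj.basicOpen 𝒜 (decompose 𝒜 u e : A), inf_le_left, ⟨hy, hey⟩, ?_⟩
  have hk'' := congrArg (AModX.res F ((inf_le_left (b := Proj.basicOpen 𝒜 (decompose 𝒜 u e : A))).trans hW)) hk'
  rw [map_zero, AModX.res_smul] at hk''
  have hz := (isUnit_res_coef g hg i _ (SetLike.coe_mem _) ((nv_basicOpen _).mono inf_le_right)).smul_eq_zero.mp hk''
  rw [map_sub, AModX.res_smul, AModX.res_smul, sub_eq_zero] at hz
  have h' := h.restrict (inf_le_left (b := Proj.basicOpen 𝒜 (decompose 𝒜 u e : A)))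
  unfold Eqn at h'
  rw [← h', smul_smul, mul_comm, ← smul_smul] at hz
  rw [AModX.res_smul, AModX.res_res, AModX.resR_resR]
  exact (isUnit_res_coef g hg i _ hs (hWs.mono inf_le_left)).smul_left_cancel.mp hz

variable (g hg F)

/-- `t` is the image of the section `a`. -/
def IsImg {U : (Proj 𝒜).Opens} (a : Γ(Til g hg F, U)) (t : Γ(F, U)) : Prop :=
  ∀ (W : (Proj 𝒜).Opens) (hWU : W ≤ U) (i : ι) (hW : W ≤ D 𝒜 g i) (n : ℕ) (σ : sec g hg F n) (s : A)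
    (hs : s ∈ 𝒜 n) (hWs : NV s W),
    (∀ y : W, GrMod.val a ⟨y.1, hWU y.2⟩ = LocalizedModule.mk (incl g hg F n σ) ⟨s, hWs y⟩) →
      Eqn g hg F i hW σ hs (AModX.res F hWU t)

lemma exists_rep {U : (Proj 𝒜).Opens} (a : Γ(Til g hg F, U)) {y : ProjectiveSpectrum 𝒜} (hy : y ∈ U) :
    ∃ (W : (Proj 𝒜).Opens) (hWU : W ≤ U) (_ : y ∈ W) (n : ℕ) (σ : sec g hg F n) (s : A) (_ : s ∈ 𝒜 n)
      (hWs : NV s W),
      ∀ z : W, GrMod.val a ⟨z.1, hWU z.2⟩ = LocalizedModule.mk (incl g hg F n σ) ⟨s, hWs z⟩ := by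
  obtain ⟨V, hyV, iV, m, j, ⟨x, hx⟩, ⟨s, hs⟩, hVs, hdeg, hval⟩ := (a : GrMod.sect 𝒜 (grade g hg F) 0 (op U)).2 ⟨y, hy⟩
  obtain ⟨σ, hσ⟩ : ∃ σ, incl g hg F j σ = x := by
    rcases hdeg with hdeg | hdeg
    · obtain rfl : m = j := by omega
      exact hx
    · exact ⟨0, (map_zero _).trans hdeg.symm⟩
  exact ⟨V, iV.le, hyV, j, σ, s, hs, hVs, fun z => (hval z).trans (by subst hσ; rfl)⟩

variable (hcov : ∀ x : ProjectiveSpectrum 𝒜, ∃ i, x ∈ D 𝒜 g i)
include hcov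

lemma isImg_unique {U : (Proj 𝒜).Opens} {a : Γ(Til g hg F, U)} {t t' : Γ(F, U)}
    (h : IsImg g hg F a t) (h' : IsImg g hg F a t') : t = t' := by
  refine AModX.eq_of_locally _ _ fun y hy => ?_
  obtain ⟨W, hWU, hyW, n, σ, s, hs, hWs, hval⟩ := exists_rep g hg F a hy
  obtain ⟨i, hi⟩ := hcov y
  have hv : ∀ z : (W ⊓ D 𝒜 g i : (Proj 𝒜).Opens), _ := fun z => hval ⟨z.1, z.2.1⟩
  exact ⟨W ⊓ D 𝒜 g i, inf_le_left.trans hWU, ⟨hyW, hi⟩,
    Eqn.unique (hWs.mono inf_le_left) (h _ _ i inf_le_right n σ s hs (hWs.mono inf_le_left) hv)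
      (h' _ _ i inf_le_right n σ s hs (hWs.mono inf_le_left) hv)⟩

lemma exists_isImg {U : (Proj 𝒜).Opens} (a : Γ(Til g hg F, U)) : ∃ t, IsImg g hg F a t := by
  choose W hWU hyW n σ s hs hWs hval using fun y : U => exists_rep g hg F a y.2
  choose i hi using fun y : U => hcov y.1
  choose tl htl using fun y : U => exists_eqn g hg F (i y) (inf_le_right : W y ⊓ D 𝒜 g (i y) ≤ _) (σ y) (hs y)
    ((hWs y).mono inf_le_left)
  obtain ⟨t, ht, -⟩ := AModX.existsUnique_glue (M := F) (fun y => W y ⊓ D 𝒜 g (i y))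
    (fun y => inf_le_left.trans (hWU y)) (fun p hp => ⟨⟨p, hp⟩, hyW _, hi _⟩) tl fun y z => by
      have hy := (htl y).restrict (inf_le_left (b := W z ⊓ D 𝒜 g (i z)))
      have hz := (htl z).restrict (inf_le_right (a := W y ⊓ D 𝒜 g (i y)))
      refine Eqn.unique ((hWs z).mono (inf_le_right.trans inf_le_left)) ?_ hz
      exact (hy.change ((hWs y).mono (inf_le_left.trans inf_le_left)) (σ z) (hs z)
        ((hWs z).mono (inf_le_right.trans inf_le_left))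
        fun p => (hval y ⟨p.1, p.2.1.1⟩).symm.trans (hval z ⟨p.1, p.2.2.1⟩)).chart _ _
  refine ⟨t, fun V hVU j hVj p τ s' hs' hVs' hv => ?_⟩
  refine AModX.eq_of_locally _ _ fun q hq => ?_
  let y : U := ⟨q, hVU hq⟩
  refine ⟨V ⊓ (W y ⊓ D 𝒜 g (i y)), inf_le_left, ⟨hq, hyW y, hi y⟩, ?_⟩
  have h1 := (htl y).restrict (inf_le_right (a := V))
  have h2 := (h1.change ((hWs y).mono (inf_le_right.trans inf_le_left)) τ hs' (hVs'.mono inf_le_left)
    fun r => (hval y ⟨r.1, r.2.2.1⟩).symm.trans (hv ⟨r.1, r.2.1⟩)).chart j (inf_le_left.trans hVj)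
  unfold Eqn at h2
  rw [AModX.res_smul, AModX.res_res, AModX.res_res, AModX.resR_resR, ← h2, ← ht y, AModX.res_res]

/-- The image of a section. -/
def img {U : (Proj 𝒜).Opens} (a : Γ(Til g hg F, U)) : Γ(F, U) := (exists_isImg g hg F hcov a).choose

lemma img_spec {U : (Proj 𝒜).Opens} (a : Γ(Til g hg F, U)) : IsImg g hg F a (img g hg F hcov a) :=
  (exists_isImg g hg F hcov a).choose_spec

lemma img_eq {U : (Proj 𝒜).Opens} {a : Γ(Til g hg F, U)} {t : Γ(F, U)}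
    (h : IsImg g hg F a t) : img g hg F hcov a = t :=
  isImg_unique g hg F hcov (img_spec g hg F hcov a) h

end Groth.Agent.GammaStar34
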