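import Groth.Agent.GammaStar34.Frac
import Mathlib.Algebra.Module.GradedModule

/-!
# The graded module of twisted sections of a module on `Proj`

For degree-one elements `g i`, a section of `F(n)` is a family of sections of `F` over the `D(g i)`,
differing on overlaps by `(g i / g j) ^ n`.
-/

noncomputable section

universe u

set_option backward.isDefEq.respectTransparency false
set_option backward.isDefEq.respectTransparency.types false
set_option synthInstance.maxHeartbeats 200000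

open CategoryTheory AlgebraicGeometry TopologicalSpace DirectSum Opposite

namespace Groth.Agent.GammaStar34

variable {R A : Type u} [CommRing R] [CommRing A] [Algebra R A] {𝒜 : ℕ → Submodule R A} [GradedAlgebra 𝒜]
  {ι : Type u} (g : ι → A) (hg : ∀ i, g i ∈ 𝒜 1) (F : (Proj 𝒜).Modules)

variable (𝒜) in
/-- The chart of `g i`. -/
abbrev D (i : ι) : (Proj 𝒜).Opens := Proj.basicOpen 𝒜 (g i)

include hg in
lemma gp (i : ι) (n : ℕ) : g i ^ n ∈ 𝒜 n := by simpa using SetLike.pow_mem_graded n (hg i)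

lemma nvg (i : ι) (n : ℕ) : NV (g i ^ n) (D 𝒜 g i) := (nv_basicOpen (g i)).pow n

/-- `a / g i ^ n`. -/
def coef (i : ι) {n : ℕ} {a : A} (ha : a ∈ 𝒜 n) : Γ(Proj 𝒜, D 𝒜 g i) :=
  frac (D 𝒜 g i) ha (gp g hg i n) (nvg g i n)

/-- `(g i / g j) ^ n` on the overlap. -/
def trans (i j : ι) (n : ℕ) : Γ(Proj 𝒜, D 𝒜 g i ⊓ D 𝒜 g j) :=
  frac _ (gp g hg i n) (gp g hg j n) ((nvg g j n).mono inf_le_right)

/-- Compatible families: the sections of `F(n)`. -/
def sec (n : ℕ) : AddSubgroup (∀ i, Γ(F, D 𝒜 g i)) where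
  carrier := {σ | ∀ i j, AModX.res F (inf_le_right : D 𝒜 g i ⊓ D 𝒜 g j ≤ D 𝒜 g j) (σ j) =
    trans g hg i j n • AModX.res F inf_le_left (σ i)}
  zero_mem' i j := by simp
  add_mem' := fun {σ τ} h h' i j => by simp only [Pi.add_apply, map_add, smul_add, h i j, h' i j]
  neg_mem' := fun {σ} h i j => by simp only [Pi.neg_apply, map_neg, smul_neg, h i j]

lemma smul_mem_sec {p n : ℕ} (a : 𝒜 p) (σ : sec g hg F n) :
    (fun i => coef g hg i a.2 • σ.1 i) ∈ sec g hg F (p + n) := fun i j => by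
  show AModX.res F _ (coef g hg j a.2 • σ.1 j) = trans g hg i j (p + n) • AModX.res F _ (coef g hg i a.2 • σ.1 i)
  rw [AModX.res_smul, AModX.res_smul, σ.2 i j, smul_smul, smul_smul]
  congr 1
  rw [coef, coef, trans, trans, res_frac, res_frac, frac_mul, frac_mul]
  exact frac_eq _ _ _ _ _ _ (by rw [pow_add, pow_add]; ring)

instance gsmul : GradedMonoid.GSMul (fun n => ↥(𝒜 n)) (fun n => ↥(sec g hg F n)) where
  smul a σ := ⟨_, smul_mem_sec g hg F a σ⟩

instance gmodule : DirectSum.Gmodule (fun n => ↥(𝒜 n)) (fun n => ↥(sec g hg F n)) where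
  one_smul := fun ⟨n, σ⟩ => Sigma.subtype_ext (zero_add _) (funext fun i => by
    show coef g hg i _ • σ.1 i = σ.1 i
    refine Eq.trans ?_ (one_smul Γ(Proj 𝒜, D 𝒜 g i) (σ.1 i))
    congr 1
    refine ext_oval fun y => Eq.trans ?_ HomogeneousLocalization.val_one.symm
    show Localization.mk (1 : A) ⟨g i ^ 0, _⟩ = _
    rw [← Localization.mk_one]
    congr 1
    exact Subtype.ext (pow_zero _))
  mul_smul := fun ⟨p, a⟩ ⟨q, b⟩ ⟨n, σ⟩ => Sigma.subtype_ext (add_assoc _ _ _) (funext fun i => by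
    show coef g hg i _ • σ.1 i = coef g hg i a.2 • coef g hg i b.2 • σ.1 i
    rw [smul_smul]
    congr 1
    rw [coef, coef, coef, frac_mul]
    exact frac_eq _ _ _ _ _ _ (show (a.1 * b.1 : A) * (g i ^ p * g i ^ q) = a.1 * b.1 * g i ^ (p + q) by rw [pow_add]))
  smul_add a σ τ := Subtype.ext (funext fun i => smul_add _ _ _)
  smul_zero a := Subtype.ext (funext fun i => smul_zero _)
  add_smul a b σ := Subtype.ext (funext fun i => by
    show coef g hg i _ • σ.1 i = coef g hg i a.2 • σ.1 i + coef g hg i b.2 • σ.1 i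
    rw [← add_smul]
    congr 1
    exact frac_add _ _ _ _)
  zero_smul σ := Subtype.ext (funext fun i => by
    show coef g hg i _ • σ.1 i = (0 : Γ(F, D 𝒜 g i))
    rw [show coef g hg i ((0 : 𝒜 _) : 𝒜 _).2 = 0 from frac_zero _ _, zero_smul])

/-- `Γ_*(F)`. -/
def Gam : Type u := ⨁ n, sec g hg F n

instance : AddCommGroup (Gam g hg F) := inferInstanceAs (AddCommGroup (⨁ n, sec g hg F n))

instance : Module (⨁ n, 𝒜 n) (Gam g hg F) :=
  inferInstanceAs (Module (⨁ n, 𝒜 n) (⨁ n, sec g hg F n))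

instance moduleA : Module A (Gam g hg F) :=
  Module.compHom _ (DirectSum.decomposeRingEquiv 𝒜).toRingHom

instance moduleR : Module R (Gam g hg F) := Module.compHom _ (algebraMap R A)

instance : IsScalarTower R A (Gam g hg F) :=
  ⟨fun r a x => by
    show ((r • a : A)) • x = (algebraMap R A r) • (a • x)
    rw [Algebra.smul_def, mul_smul]⟩

/-- The homogeneous element given by a compatible family. -/
def incl (n : ℕ) : sec g hg F n →+ Gam g hg F := DirectSum.of (fun n => ↥(sec g hg F n)) n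

lemma smul_incl {p n : ℕ} {a : A} (ha : a ∈ 𝒜 p) (σ : sec g hg F n) :
    a • incl g hg F n σ = incl g hg F (p + n) ⟨_, smul_mem_sec g hg F ⟨a, ha⟩ σ⟩ := by
  show DirectSum.decompose 𝒜 a • DirectSum.of (fun n => ↥(sec g hg F n)) n σ = _
  rw [decompose_of_mem 𝒜 ha, DirectSum.Gmodule.of_smul_of]
  rfl

/-- The pieces of `Γ_*(F)`. -/
def grade (n : ℕ) : Submodule R (Gam g hg F) where
  carrier := Set.range (incl g hg F n)
  zero_mem' := ⟨0, map_zero _⟩
  add_mem' := by rintro _ _ ⟨σ, rfl⟩ ⟨τ, rfl⟩; exact ⟨σ + τ, map_add _ _ _⟩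
  smul_mem' := by
    rintro r _ ⟨σ, rfl⟩
    refine ⟨⟨(fun i => coef g hg i (SetLike.algebraMap_mem_graded 𝒜 r) • σ.1 i), ?_⟩, ?_⟩
    · have := smul_mem_sec g hg F ⟨_, SetLike.algebraMap_mem_graded 𝒜 r⟩ σ
      rwa [zero_add] at this
    · refine Eq.trans ?_ (smul_incl g hg F (SetLike.algebraMap_mem_graded 𝒜 r) σ).symm
      exact DirectSum.of_eq_of_gradedMonoid_eq (Sigma.subtype_ext (zero_add n).symm rfl)

lemma incl_mem (n : ℕ) (σ : sec g hg F n) : incl g hg F n σ ∈ grade g hg F n := ⟨σ, rfl⟩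

lemma incl_injective (n : ℕ) : Function.Injective (incl g hg F n) :=
  DirectSum.of_injective n

instance : SetLike.GradedSMul 𝒜 (grade g hg F) :=
  ⟨fun {p n} {a m} ha hm => by
    obtain ⟨σ, rfl⟩ := hm
    rw [smul_incl g hg F ha σ]
    exact incl_mem g hg F _ _⟩

/-- A homogeneous component, in its piece. -/
def inclGrade (n : ℕ) : sec g hg F n →+ grade g hg F n where
  toFun σ := ⟨incl g hg F n σ, incl_mem g hg F n σ⟩
  map_zero' := Subtype.ext (map_zero _)
  map_add' σ τ := Subtype.ext (map_add _ _ _)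

/-- The splitting of `Γ_*(F)` into its pieces. -/
def toGrade : Gam g hg F →+ ⨁ n, grade g hg F n :=
  DirectSum.toAddMonoid (β := fun n => ↥(sec g hg F n)) fun n =>
    (DirectSum.of (fun n => ↥(grade g hg F n)) n).comp (inclGrade g hg F n)

lemma toGrade_incl (n : ℕ) (σ : sec g hg F n) :
    toGrade g hg F (incl g hg F n σ) = DirectSum.of (fun n => ↥(grade g hg F n)) n (inclGrade g hg F n σ) :=
  DirectSum.toAddMonoid_of (β := fun n => ↥(sec g hg F n)) _ n σ

lemma Gam.induction {P : Gam g hg F → Prop} (x : Gam g hg F) (h0 : P 0)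
    (h1 : ∀ (n : ℕ) (σ : sec g hg F n), P (incl g hg F n σ)) (h2 : ∀ x y, P x → P y → P (x + y)) : P x :=
  DirectSum.induction_on (β := fun n => ↥(sec g hg F n)) x h0 h1 h2

/-- The sum map. -/
abbrev fromGrade : (⨁ n, grade g hg F n) →+ Gam g hg F :=
  DirectSum.coeAddMonoidHom (grade g hg F)

lemma coe_toGrade : (fromGrade g hg F).comp (toGrade g hg F) = AddMonoidHom.id _ := by
  refine DirectSum.addHom_ext (β := fun n => ↥(sec g hg F n)) fun n σ => ?_
  exact (congrArg (fromGrade g hg F) (toGrade_incl g hg F n σ)).trans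
    (DirectSum.coeAddMonoidHom_of (grade g hg F) n (inclGrade g hg F n σ))

lemma toGrade_coe : (toGrade g hg F).comp (fromGrade g hg F) = AddMonoidHom.id _ := by
  refine DirectSum.addHom_ext (β := fun n => ↥(grade g hg F n)) fun n y => ?_
  obtain ⟨σ, hσ⟩ := y.2
  exact (congrArg (toGrade g hg F) ((DirectSum.coeAddMonoidHom_of (grade g hg F) n y).trans hσ.symm)).trans
    ((toGrade_incl g hg F n σ).trans
      (congrArg (DirectSum.of (fun n => ↥(grade g hg F n)) n) (Subtype.ext hσ)))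

instance decomposition : DirectSum.Decomposition (grade g hg F) :=
  DirectSum.Decomposition.ofAddHom (grade g hg F) (toGrade g hg F) (coe_toGrade g hg F) (toGrade_coe g hg F)

end Groth.Agent.GammaStar34
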