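import Groth.Agent.GammaStar34.Twist

/-!
# Serre's theorem on twists
-/

noncomputable section

universe u

set_option backward.isDefEq.respectTransparency false
set_option backward.isDefEq.respectTransparency.types false
set_option synthInstance.maxHeartbeats 200000

open CategoryTheory CategoryTheory.Limits AlgebraicGeometry TopologicalSpace Opposite

namespace Groth.Agent.GammaStar34

/-- Morphisms out of a tensor product with a locally free rank one module are determined on generators. -/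
theorem hom_ext_tmul_span {X : Scheme.{u}} {M N W : X.Modules} (hM : Coh.IsQCoh M) {ι κ : Type*} (U : ι → X.Opens)
    (hU : ∀ i, IsAffineOpen (U i)) (hcov : ∀ x, ∃ i, x ∈ U i) (v : ∀ i, κ → Γ(M, U i))
    (hv : ∀ i, Submodule.span Γ(X, U i) (Set.range (v i)) = ⊤) (e : ∀ i, Γ(N, U i))
    (he : ∀ i, InvX.IsFrame (e i)) {φ ψ : CohB1.tensorMod M N ⟶ W}
    (h : ∀ i k, φ.app (U i) (InvX.tmul (v i k) (e i)) = ψ.app (U i) (InvX.tmul (v i k) (e i))) : φ = ψ := by
  refine AmpleVan.hom_ext_tmul fun V m b => AModX.eq_of_locally _ _ fun p hp => ?_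
  obtain ⟨i, hi⟩ := hcov p
  obtain ⟨r, hrV, hpr⟩ := (hU i).exists_basicOpen_le ⟨p, hp⟩ hi
  refine ⟨_, hrV, hpr, ?_⟩
  rw [← AModX.app_res, ← AModX.app_res]
  show φ.app _ (AModX.res (CohB1.tensorMod M N) hrV (InvX.tmul m b)) =
    ψ.app _ (AModX.res (CohB1.tensorMod M N) hrV (InvX.tmul m b))
  rw [InvX.res_tmul]
  obtain ⟨c, hc⟩ := (he i).exists_coord (X.basicOpen_le r) (AModX.res N hrV b)
  rw [hc, InvX.tmul_smul_right, Scheme.Modules.Hom.app_smul, Scheme.Modules.Hom.app_smul]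
  congr 1
  generalize hy : AModX.res M hrV m = y
  clear hy
  have hx : y ∈ Submodule.span _ _ :=
    (span_res_basicOpen hM (hU i) (v := v i) (c := Set.univ) (by rw [Set.image_univ]; exact hv i) r).ge
      Submodule.mem_top
  induction hx using Submodule.span_induction with
  | mem y hy =>
    obtain ⟨k, -, rfl⟩ := hy
    rw [← InvX.res_tmul, AModX.app_res, AModX.app_res, h i k]
  | zero => rw [AmpleVan.tmul_zero_left, map_zero, map_zero]
  | add y z _ _ hy hz => rw [AmpleVan.tmul_add_left, map_add, map_add, hy, hz]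
  | smul a y _ hy => rw [InvX.tmul_smul_left, Scheme.Modules.Hom.app_smul, Scheme.Modules.Hom.app_smul, hy]

variable {R A : Type u} [CommRing R] [CommRing A] [Algebra R A] {𝒜 : ℕ → Submodule R A} [GradedAlgebra 𝒜]
  {ι : Type u} (g : ι → A) (hg : ∀ i, g i ∈ 𝒜 1) {F : (Proj 𝒜).Modules}
  (hcov : ∀ x : ProjectiveSpectrum 𝒜, ∃ i, x ∈ D 𝒜 g i)

include hg hcov in
/-- Serre: `F(n)` is a quotient of a free module, `n ≫ 0`. -/
theorem exists_epi_pos [Finite ι] (hF : Coh.IsQCoh F) (hFT : CohB1.IsFT F) :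
    ∃ n₀ : ℕ, ∀ n : ℕ, n₀ ≤ n →
      ∃ (k : ℕ) (p : FlatMod.freeMod (Proj 𝒜) k ⟶ Twist.twistBy 𝒜 F (n : ℤ)), Epi p := by
  obtain ⟨N, hN⟩ := exists_gens_deg g hg hcov hF hFT
  refine ⟨N, fun n hn => ?_⟩
  obtain ⟨k, τ, hτ⟩ := hN n hn
  choose t ht using fun j => exists_posSec g hg hcov (τ j)
  refine ⟨k, Sigma.desc fun j => InvX.ofSect (t j), ⟨fun {W} φ ψ h => ?_⟩⟩
  have htop : ∀ j, φ.app ⊤ (t j) = ψ.app ⊤ (t j) := fun j => by
    have h' : InvX.ofSect (t j) ≫ φ = InvX.ofSect (t j) ≫ ψ := by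
      rw [← Sigma.ι_desc (fun j => InvX.ofSect (t j)) j, Category.assoc, h, Category.assoc]
    rw [← InvX.one_ofSect (t j)]
    exact congrArg InvX.one h'
  refine hom_ext_tmul_span hF (D 𝒜 g) (fun i => Proj.isAffineOpen_basicOpen 𝒜 (g i) (hg i) Nat.one_pos)
    hcov (fun i j => (τ j).1 i) hτ (fun i => posF g hg i n) (fun i => isFrame_posF g hg i n) fun i j => ?_
  rw [← ht j i]
  exact (AModX.app_res φ _ (t j)).trans ((congrArg _ (htop j)).trans (AModX.app_res ψ _ (t j)).symm)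

end Groth.Agent.GammaStar34
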