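import Groth.Agent.GammaStar34.FiniteSub
import Groth.Agent.TwistX.Global
import Groth.Agent.AmpleVan.Mul
import Groth.Agent.InvX.GenEpi

/-!
# Compatible families as morphisms from `O(-n)` and as sections of `F(n)`
-/

noncomputable section

universe u

set_option backward.isDefEq.respectTransparency false
set_option backward.isDefEq.respectTransparency.types false
set_option synthInstance.maxHeartbeats 200000

open CategoryTheory CategoryTheory.Limits AlgebraicGeometry TopologicalSpace Opposite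

namespace Groth.Agent.GammaStar34

/-- Generators on an affine generate on its basic opens. -/
theorem span_res_basicOpen {X : Scheme.{u}} {F : X.Modules} (hF : Coh.IsQCoh F) {U : X.Opens}
    (hU : IsAffineOpen U) {κ : Type*} {c : Set κ} {v : κ → Γ(F, U)}
    (hv : Submodule.span Γ(X, U) (v '' c) = ⊤) (r : Γ(X, U)) :
    Submodule.span Γ(X, X.basicOpen r) ((fun k => AModX.res F (X.basicOpen_le r) (v k)) '' c) = ⊤ := by
  refine top_le_iff.1 fun x _ => ?_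
  obtain ⟨N, t, ht⟩ := QCoh.exists_pow_smul_eq_map hF hU r x
  have key : ∀ t ∈ Submodule.span Γ(X, U) (v '' c), AModX.res F (X.basicOpen_le r) t ∈
      Submodule.span Γ(X, X.basicOpen r) ((fun k => AModX.res F (X.basicOpen_le r) (v k)) '' c) := by
    intro t ht
    induction ht using Submodule.span_induction with
    | mem y hy => obtain ⟨k, hk, rfl⟩ := hy; exact Submodule.subset_span ⟨k, hk, rfl⟩
    | zero => rw [map_zero]; exact zero_mem _
    | add y z _ _ hy hz => rw [map_add]; exact add_mem hy hz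
    | smul a y _ hy => rw [AModX.res_smul]; exact Submodule.smul_mem _ _ hy
  obtain ⟨u, hu⟩ := (AModX.isUnit_resR (X.basicOpen_le r) r le_rfl).pow N
  have hx : x = (u⁻¹ : Γ(X, X.basicOpen r)ˣ).1 • AModX.res F (X.basicOpen_le r) t := by
    rw [show AModX.res F (X.basicOpen_le r) t = AModX.resR (X.basicOpen_le r) r ^ N • x from ht,
      ← hu, smul_smul, Units.inv_mul, one_smul]
  rw [hx]
  exact Submodule.smul_mem _ _ (key t (hv ▸ Submodule.mem_top))

variable {R A : Type u} [CommRing R] [CommRing A] [Algebra R A] {𝒜 : ℕ → Submodule R A} [GradedAlgebra 𝒜]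
  {ι : Type u} (g : ι → A) (hg : ∀ i, g i ∈ 𝒜 1) {F : (Proj 𝒜).Modules}

/-- `g i ^ n / 1` in degree `n`. -/
def fracPos (i : ι) (n : ℕ) : TwistX.UnitFrac (𝒜 := 𝒜) (n : ℤ) (D 𝒜 g i) where
  i := n
  j := 0
  num := g i ^ n
  den := 1
  num_mem := gp g hg i n
  den_mem := SetLike.GradedOne.one_mem
  deg := by simp
  num_ne := nvg g i n
  den_ne := NV.one _

/-- `1 / g i ^ n` in degree `-n`. -/
def fracNeg (i : ι) (n : ℕ) : TwistX.UnitFrac (𝒜 := 𝒜) (-(n : ℤ)) (D 𝒜 g i) where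
  i := 0
  j := n
  num := 1
  den := g i ^ n
  num_mem := SetLike.GradedOne.one_mem
  den_mem := gp g hg i n
  deg := by omega
  num_ne := NV.one _
  den_ne := nvg g i n

/-- The frame of `O(n)` on a chart. -/
def posF (i : ι) (n : ℕ) : Γ(Twist.twist 𝒜 (n : ℤ), D 𝒜 g i) := TwistX.fracSect (fracPos g hg i n)

/-- The frame of `O(-n)` on a chart. -/
def negF (i : ι) (n : ℕ) : Γ(Twist.twist 𝒜 (-(n : ℤ)), D 𝒜 g i) := TwistX.fracSect (fracNeg g hg i n)

lemma isFrame_posF (i : ι) (n : ℕ) : InvX.IsFrame (posF g hg i n) := TwistX.isFrame_fracSect _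

lemma isFrame_negF (i : ι) (n : ℕ) : InvX.IsFrame (negF g hg i n) := TwistX.isFrame_fracSect _

lemma twist_ext {m : ℤ} {U : (Proj 𝒜).Opens} {a b : Γ(Twist.twist 𝒜 m, U)}
    (h : ∀ y : U, (((a : Twist.sectN (𝒜 := 𝒜) m (op U)).1 y : Twist.twistAt 𝒜 m y.1) : Twist.Loc 𝒜 y.1) =
      (((b : Twist.sectN (𝒜 := 𝒜) m (op U)).1 y : Twist.twistAt 𝒜 m y.1) : Twist.Loc 𝒜 y.1)) : a = b :=
  Subtype.ext (funext fun y => Subtype.ext (h y))

lemma negF_trans (a b : ι) (n : ℕ) :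
    AModX.res (Twist.twist 𝒜 (-(n : ℤ))) (inf_le_right : D 𝒜 g a ⊓ D 𝒜 g b ≤ _) (negF g hg b n) =
      trans g hg a b n • AModX.res _ inf_le_left (negF g hg a n) := by
  refine twist_ext fun y => ?_
  show Localization.mk (1 : A) ⟨g b ^ n, _⟩ = ((GrModX.oval 𝒜 (trans g hg a b n) y) • _ : Twist.twistAt 𝒜 (-(n : ℤ)) y.1).1
  rw [Twist.coe_smul_val, trans, val_frac]
  show _ = _ * Localization.mk (1 : A) ⟨g a ^ n, nvg g a n ⟨y.1, y.2.1⟩⟩
  rw [Localization.mk_mul, Localization.mk_eq_mk_iff, Localization.r_iff_exists]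
  exact ⟨1, by simp only [Submonoid.coe_mul, OneMemClass.coe_one, one_mul, mul_one]; try ring⟩

lemma posF_trans (a b : ι) (n : ℕ) :
    AModX.res (Twist.twist 𝒜 (n : ℤ)) (inf_le_left : D 𝒜 g a ⊓ D 𝒜 g b ≤ _) (posF g hg a n) =
      trans g hg a b n • AModX.res _ inf_le_right (posF g hg b n) := by
  refine twist_ext fun y => ?_
  show Localization.mk (g a ^ n) ⟨1, _⟩ = ((GrModX.oval 𝒜 (trans g hg a b n) y) • _ : Twist.twistAt 𝒜 (n : ℤ) y.1).1
  rw [Twist.coe_smul_val, trans, val_frac]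
  show _ = _ * Localization.mk (g b ^ n) ⟨1, NV.one (D 𝒜 g b) ⟨y.1, y.2.2⟩⟩
  rw [Localization.mk_mul, Localization.mk_eq_mk_iff, Localization.r_iff_exists]
  exact ⟨1, by simp only [Submonoid.coe_mul, OneMemClass.coe_one, one_mul, mul_one]; try ring⟩

variable (hcov : ∀ x : ProjectiveSpectrum 𝒜, ∃ i, x ∈ D 𝒜 g i)

lemma negF_compat {n : ℕ} (σ : sec g hg F n) (a b : ι) (W : (Proj 𝒜).Opens) (ha : W ≤ D 𝒜 g a)
    (hb : W ≤ D 𝒜 g b) (c : Γ(Proj 𝒜, W))
    (h : AModX.res _ hb (negF g hg b n) = c • AModX.res _ ha (negF g hg a n)) :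
    AModX.res F hb (σ.1 b) = c • AModX.res F ha (σ.1 a) := by
  have h1 := congrArg (AModX.res (Twist.twist 𝒜 (-(n : ℤ))) (le_inf ha hb)) (negF_trans g hg a b n)
  have h2 := congrArg (AModX.res F (le_inf ha hb)) (σ.2 a b)
  rw [AModX.res_res, AModX.res_smul, AModX.res_res] at h1 h2
  rw [h2, (isFrame_negF g hg a n).coord_unique ha (h.symm.trans h1)]

include hcov in
/-- The morphism `O(-n) ⟶ F` of a compatible family. -/
theorem exists_negHom {n : ℕ} (σ : sec g hg F n) :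
    ∃ f : Twist.twist 𝒜 (-(n : ℤ)) ⟶ F, ∀ i, f.app (D 𝒜 g i) (negF g hg i n) = σ.1 i :=
  ⟨InvX.ofFrames hcov (fun i => isFrame_negF g hg i n) (negF_compat g hg σ),
    InvX.ofFrames_app hcov (fun i => isFrame_negF g hg i n) (negF_compat g hg σ)⟩

include hcov in
/-- The section of `F(n)` of a compatible family. -/
theorem exists_posSec {n : ℕ} (σ : sec g hg F n) :
    ∃ t : Γ(Twist.twistBy 𝒜 F (n : ℤ), ⊤),
      ∀ i, AModX.res _ (le_top : D 𝒜 g i ≤ ⊤) t = InvX.tmul (σ.1 i) (posF g hg i n) := by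
  obtain ⟨t, ht, -⟩ := AModX.existsUnique_glue (M := Twist.twistBy 𝒜 F (n : ℤ)) (V := ⊤) (D 𝒜 g)
    (fun _ => le_top) (fun p _ => hcov p) (fun i => InvX.tmul (σ.1 i) (posF g hg i n)) fun i j => by
      show AModX.res (CohB1.tensorMod F (Twist.twist 𝒜 (n : ℤ))) _ _ =
        AModX.res (CohB1.tensorMod F (Twist.twist 𝒜 (n : ℤ))) _ _
      rw [InvX.res_tmul, InvX.res_tmul, σ.2 i j, posF_trans g hg i j n, InvX.tmul_smul_left,
        InvX.tmul_smul_right]
  exact ⟨t, ht⟩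

include hcov in
/-- Generators of one degree. -/
theorem exists_gens_deg [Finite ι] (hF : Coh.IsQCoh F) (hFT : CohB1.IsFT F) :
    ∃ n₀ : ℕ, ∀ n, n₀ ≤ n → ∃ (k : ℕ) (τ : Fin k → sec g hg F n),
      ∀ i, Submodule.span Γ(Proj 𝒜, D 𝒜 g i) (Set.range fun j => (τ j).1 i) = ⊤ := by
  obtain ⟨κ, _, e, σ, hσ⟩ := exists_gens g hg F hcov hF hFT
  obtain ⟨N, hN⟩ := exists_bound e
  refine ⟨N, fun n hn => ?_⟩
  have hmem : ∀ p : ι × κ, (fun l => coef g hg l (gp g hg p.1 (n - e p.2)) • (σ p.2).1 l) ∈ sec g hg F n :=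
    fun p => by
      have := smul_mem_sec g hg F ⟨_, gp g hg p.1 (n - e p.2)⟩ (σ p.2)
      rwa [Nat.sub_add_cancel ((hN p.2).trans hn)] at this
  obtain ⟨m, ⟨eq⟩⟩ := Finite.exists_equiv_fin (ι × κ)
  refine ⟨m, fun j => ⟨_, hmem (eq.symm j)⟩, fun i => top_le_iff.1 ?_⟩
  obtain ⟨c, hc⟩ := hσ i
  rw [← hc, Submodule.span_le]
  rintro _ ⟨k, -, rfl⟩
  refine Submodule.subset_span ⟨eq (i, k), ?_⟩
  show coef g hg i (gp g hg (eq.symm (eq (i, k))).1 _) • (σ (eq.symm (eq (i, k))).2).1 i = (σ k).1 i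
  rw [eq.symm_apply_apply, coef_self, one_smul]

/-- A point of an open has a basic neighbourhood in a chart. -/
lemma exists_basic (hg : ∀ i, g i ∈ 𝒜 1) (hcov : ∀ x : ProjectiveSpectrum 𝒜, ∃ i, x ∈ D 𝒜 g i) {U : (Proj 𝒜).Opens}
    {p : ProjectiveSpectrum 𝒜} (hp : p ∈ U) : ∃ (i : ι) (r : Γ(Proj 𝒜, D 𝒜 g i)),
      p ∈ (Proj 𝒜).basicOpen r ∧ (Proj 𝒜).basicOpen r ≤ U := by
  obtain ⟨i, hi⟩ := hcov p
  obtain ⟨r, hr, hpr⟩ := (Proj.isAffineOpen_basicOpen 𝒜 (g i) (hg i) Nat.one_pos).exists_basicOpen_le ⟨p, hp⟩ hi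
  exact ⟨i, r, hpr, hr⟩

include hg hcov in
/-- Morphisms agreeing on generators on the charts are equal. -/
theorem hom_ext_span {G : (Proj 𝒜).Modules} (hF : Coh.IsQCoh F) {κ : Type*} (v : ∀ i, κ → Γ(F, D 𝒜 g i))
    (hv : ∀ i, Submodule.span Γ(Proj 𝒜, D 𝒜 g i) (Set.range (v i)) = ⊤) {φ ψ : F ⟶ G}
    (h : ∀ i k, φ.app _ (v i k) = ψ.app _ (v i k)) : φ = ψ := by
  refine Scheme.Modules.hom_ext _ _ fun U => ?_
  ext x
  refine AModX.eq_of_locally _ _ fun p hp => ?_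
  obtain ⟨i, r, hpr, hrU⟩ := exists_basic g hg hcov hp
  refine ⟨_, hrU, hpr, ?_⟩
  rw [← AModX.app_res, ← AModX.app_res]
  generalize hy : AModX.res F hrU x = y
  clear hy
  have hx : y ∈ Submodule.span _ _ :=
    (span_res_basicOpen hF (Proj.isAffineOpen_basicOpen 𝒜 (g i) (hg i) Nat.one_pos)
      (v := v i) (c := Set.univ) (by rw [Set.image_univ]; exact hv i) r).ge Submodule.mem_top
  induction hx using Submodule.span_induction with
  | mem y hy => obtain ⟨k, -, rfl⟩ := hy; rw [AModX.app_res, AModX.app_res, h i k]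
  | zero => rw [map_zero, map_zero]
  | add y z _ _ hy hz => rw [map_add, map_add, hy, hz]
  | smul a y _ hy => rw [Scheme.Modules.Hom.app_smul, Scheme.Modules.Hom.app_smul, hy]

include hg hcov in
/-- `F` is a quotient of copies of `O(-n)`, `n ≫ 0`. -/
theorem exists_epi_neg [Finite ι] (hF : Coh.IsQCoh F) (hFT : CohB1.IsFT F) :
    ∃ n₀ : ℕ, ∀ n : ℕ, n₀ ≤ n →
      ∃ (k : ℕ) (p : (∐ fun _ : Fin k => Twist.twist 𝒜 (-(n : ℤ))) ⟶ F), Epi p := by
  obtain ⟨N, hN⟩ := exists_gens_deg g hg hcov hF hFT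
  refine ⟨N, fun n hn => ?_⟩
  obtain ⟨k, τ, hτ⟩ := hN n hn
  choose f hf using fun j => exists_negHom g hg hcov (τ j)
  refine ⟨k, Sigma.desc f, ⟨fun φ ψ h => hom_ext_span g hg hcov hF (fun i j => (τ j).1 i) hτ fun i j => ?_⟩⟩
  have h' : f j ≫ φ = f j ≫ ψ := by rw [← Sigma.ι_desc f j, Category.assoc, h, Category.assoc]
  rw [← hf j i]
  exact congrArg (fun χ : Twist.twist 𝒜 (-(n : ℤ)) ⟶ _ => χ.app (D 𝒜 g i) (negF g hg i n)) h'

end Groth.Agent.GammaStar34
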